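import Mathlib
import Groth.Agent.GpCohX.Averaging
open CategoryTheory

namespace Groth.Agent.GpCohX
variable {G : Type} [Group G] [Finite G]

/-- Cohomology in positive degree of a module on which the order of the group is invertible vanishes. -/
theorem subsingleton_of_bij (A : Rep.{0} ℤ G) (hb : Function.Bijective (fun a : A => Nat.card G • a))
    {i : ℕ} (hi : 0 < i) : Subsingleton (groupCohomology A i) := by
  let f : A ⟶ A := Nat.card G • 𝟙 A
  have hf : ∀ a : A, f.hom a = Nat.card G • a := fun a => by
    simp only [f]
    induction Nat.card G with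
    | zero => simp
    | succ n ih => rw [succ_nsmul, succ_nsmul, ← ih]; rfl
  have : Mono f := (Rep.mono_iff_injective f).2 (by rw [funext hf]; exact hb.1)
  have : Epi f := (Rep.epi_iff_surjective f).2 (by rw [funext hf]; exact hb.2)
  have : IsIso f := isIso_of_mono_of_epi f
  have : (groupCohomology.functor ℤ G i).Additive := by
    exact ⟨fun {X Y f g} => (groupCohomology.cochainsFunctor ℤ G ⋙
      HomologicalComplex.homologyFunctor (ModuleCat ℤ) (ComplexShape.up ℕ) i).map_add (f := f) (g := g)⟩
  have hz : (groupCohomology.functor ℤ G i).map f = 0 := by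
    rw [Functor.map_nsmul, CategoryTheory.Functor.map_id]
    refine ModuleCat.hom_ext (LinearMap.ext fun x => ?_)
    exact card_smul_eq_zero A hi x
  refine subsingleton_of_forall_eq 0 fun x => ?_
  obtain ⟨y, rfl⟩ := (ConcreteCategory.bijective_of_isIso ((groupCohomology.functor ℤ G i).map f)).2 x
  rw [hz]; rfl

omit [Group G] [Finite G] in
/-- Elementwise form of exactness for representations. -/
theorem exists_of_exact {k H : Type} [CommRing k] [Group H] {X : ShortComplex (Rep.{0} k H)}
    (hX : X.Exact) (y : X.X₂) (hy : X.g.hom y = 0) : ∃ x, X.f.hom x = y := by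
  have h := hX.map (forget₂ (Rep k H) (ModuleCat k))
  rw [ShortComplex.moduleCat_exact_iff] at h
  exact h y hy

end Groth.Agent.GpCohX
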